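import Groth.Agent.H82.Coxeter.Weyl
import Groth.Agent.H84.BaseBridge
import Groth.Agent.H82.R2.Norm
import Groth.Agent.H82.Weyl.Global
import Groth.Agent.H82.Bruhat.Deodhar

/-!
# Homomorphisms on the normalizer of a pinned torus
-/

set_option autoImplicit false
set_option linter.style.haveILetI false
set_option linter.unusedSectionVars false
universe u

open CategoryTheory MonoidalCategory CartesianMonoidalCategory MonObj GrpObj AlgebraicGeometry Opposite
open Groth.Agent.Lib.RedPts Groth.Agent.H82.BigCell Groth.Agent.H82.Contract Groth.Agent.H82.Weyl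

namespace Groth.Agent.H82.Coxeter

variable {S : Scheme.{u}} {G H : Over S} [GrpObj G] [GrpObj H] {D : Red.SplitRed G}

theorem smul_wordProd (l : List D.idx) (m : D.M) :
    Groth.Agent.Lib.RootDatum.Weyl.wordProd D.P l • m = word D.P l m := by
  induction l generalizing m with
  | nil => simp [Groth.Agent.Lib.RootDatum.Weyl.wordProd]
  | cons a l ih =>
    rw [Groth.Agent.Lib.RootDatum.Weyl.wordProd, List.map_cons, List.prod_cons, mul_smul]
    refine (congrArg _ (ih m)).trans ?_
    rw [word_cons, LinearEquiv.mul_apply, Groth.Agent.Lib.RootDatum.Basic.reflection_smul_weight,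
      D.P.reflection_apply]

variable [D.P.IsCrystallographic]

theorem wordProd_eq_one_iff (l : List D.idx) :
    Groth.Agent.Lib.RootDatum.Weyl.wordProd D.P l = 1 ↔ word D.P l = 1 := by
  refine ⟨fun h => LinearEquiv.ext fun m => ?_, fun h => Groth.Agent.Lib.RootDatum.Basic.aut_ext D.P fun m => ?_⟩
  · rw [← smul_wordProd, h, one_smul]; rfl
  · rw [smul_wordProd, h, one_smul]; rfl

variable (b : D.P.Base)

theorem order_eq (a c : ↥b.support) :
    orderOf (simp' D.P (b.support : Set D.idx) a * simp' D.P (b.support : Set D.idx) c) =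
      orderOf (D.P.reflection (a : D.idx) * D.P.reflection (c : D.idx)) := by
  refine orderOf_eq_orderOf_iff.2 fun n => ?_
  rw [← val_flatten_replicate (fun x : D.idx => D.P.reflection x), ← val_flatten_replicate,
    val_eq, wordProd_eq_one_iff]
  simp [val, word, List.map_flatten, List.map_replicate]

/-- Every word of reflections acts as a word of simple reflections. -/
theorem exists_simple_word (l : List D.idx) : ∃ l' : List ↥b.support, wmap D (l'.map Subtype.val) = wmap D l := by
  have h : Groth.Agent.Lib.RootDatum.Weyl.wordProd D.P l ∈ D.P.weylGroup :=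
    Groth.Agent.Lib.RootDatum.Weyl.genBy_le D.P Set.univ
      (Groth.Agent.Lib.RootDatum.Weyl.wordProd_mem D.P fun a _ => Set.mem_univ a)
  rw [← Groth.Agent.Lib.RootDatum.Weyl.genBy_simple (Groth.Agent.H84.BaseBridge.isSimpleSys b)] at h
  obtain ⟨l₁, hl₁, he⟩ := Groth.Agent.Lib.RootDatum.Weyl.exists_word D.P h
  refine ⟨l₁.pmap (fun a ha => (⟨a, ha⟩ : ↥b.support)) fun a ha => hl₁ a ha, AddMonoidHom.ext fun m => ?_⟩
  rw [List.map_pmap, List.pmap_eq_map, List.map_id']
  change word D.P l₁ m = word D.P l m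
  rw [← smul_wordProd, ← smul_wordProd, he]

/-- The normalising elements and their prospective images. -/
structure NData (H : Over S) [GrpObj H] where
  w : D.idx → (𝟙_ (Over S) ⟶ G)
  rep : ∀ a ∈ b.support, ActsBy (wmap D [a]) (w a)
  fT : D.T ⟶ H
  monT : IsMonHom fT
  h : D.idx → (𝟙_ (Over S) ⟶ H)
  conj : ∀ a ∈ b.support, ∀ (X : Over S) (t : X ⟶ D.T),
    act D (wmap D [a]) t ≫ fT = (toUnit X ≫ h a) * (t ≫ fT) * (toUnit X ≫ h a)⁻¹
  rel : ∀ a ∈ b.support, ∀ c ∈ b.support, ∀ t : 𝟙_ (Over S) ⟶ D.T,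
    t ≫ D.i = (w a * w c) ^ orderOf (D.P.reflection a * D.P.reflection c) →
      t ≫ fT = (h a * h c) ^ orderOf (D.P.reflection a * D.P.reflection c)

attribute [instance] NData.monT

variable {b} (C : NData b H)

/-- The pairs of the torus. -/
noncomputable def NData.tor (X : Over S) : (X ⟶ D.T) →* (X ⟶ G) × (X ⟶ H) :=
  haveI := D.maximalTorus.1
  MonoidHom.mk' (fun t => (t ≫ D.i, t ≫ C.fT)) fun x y => Prod.ext (MonObj.mul_comp x y D.i) (MonObj.mul_comp x y C.fT)

/-- The pair of a simple root. -/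
noncomputable def NData.gen (X : Over S) (a : ↥b.support) : (X ⟶ G) × (X ⟶ H) :=
  (toUnit X ≫ C.w a, toUnit X ≫ C.h a)

/-- The pair of a word. -/
noncomputable def NData.wpair (X : Over S) (l : List ↥b.support) : (X ⟶ G) × (X ⟶ H) := val (C.gen X) l

theorem wpair_nil (X : Over S) : C.wpair X [] = 1 := rfl

theorem wpair_cons (X : Over S) (a : ↥b.support) (l : List ↥b.support) :
    C.wpair X (a :: l) = C.gen X a * C.wpair X l := val_cons _ _ _

theorem wpair_append (X : Over S) (l m : List ↥b.support) :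
    C.wpair X (l ++ m) = C.wpair X l * C.wpair X m := val_append _ _ _

/-- Restriction of pairs. -/
noncomputable def resPair {X X' : Over S} (x : X' ⟶ X) : (X ⟶ G) × (X ⟶ H) →* (X' ⟶ G) × (X' ⟶ H) :=
  MonoidHom.mk' (fun p => (x ≫ p.1, x ≫ p.2)) fun p q => Prod.ext (MonObj.comp_mul x _ _) (MonObj.comp_mul x _ _)

theorem resPair_gen {X X' : Over S} (x : X' ⟶ X) (a : ↥b.support) : resPair x (C.gen X a) = C.gen X' a :=
  Prod.ext (by simp [resPair, NData.gen]) (by simp [resPair, NData.gen])

theorem resPair_tor {X X' : Over S} (x : X' ⟶ X) (t : X ⟶ D.T) : resPair x (C.tor X t) = C.tor X' (x ≫ t) :=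
  Prod.ext (by simp [resPair, NData.tor]) (by simp [resPair, NData.tor])

theorem resPair_wpair {X X' : Over S} (x : X' ⟶ X) (l : List ↥b.support) :
    resPair x (C.wpair X l) = C.wpair X' l := by
  induction l with
  | nil => exact map_one _
  | cons a l ih => rw [wpair_cons, map_mul, resPair_gen, wpair_cons, ih]

theorem conj_gen (X : Over S) (a : ↥b.support) (t : X ⟶ D.T) :
    C.gen X a * C.tor X t = C.tor X (act D (wmap D [(a : D.idx)]) t) * C.gen X a := by
  refine Prod.ext ?_ ?_
  · have := ((C.rep a a.2).comp (toUnit X)) X (𝟙 X) t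
    rw [Category.id_comp, mul_inv_eq_iff_eq_mul] at this
    exact this
  · have := C.conj a a.2 X t
    rw [eq_mul_inv_iff_mul_eq] at this
    exact this.symm

theorem conj_wpair (X : Over S) : ∀ (l : List ↥b.support) (t : X ⟶ D.T), ∃ t' : X ⟶ D.T,
    C.wpair X l * C.tor X t = C.tor X t' * C.wpair X l
  | [], t => ⟨t, by simp [NData.wpair]⟩
  | a :: l, t => by
    obtain ⟨t₁, h₁⟩ := conj_wpair X l t
    refine ⟨act D (wmap D [(a : D.idx)]) t₁, ?_⟩
    rw [NData.wpair, val_cons, _root_.mul_assoc]
    rw [NData.wpair] at h₁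
    rw [h₁, ← _root_.mul_assoc, conj_gen, _root_.mul_assoc]

theorem actsBy_wpair (X : Over S) : ∀ l : List ↥b.support,
    ActsBy (wmap D (l.map Subtype.val).reverse) (C.wpair X l).1
  | [] => by
    rw [List.map_nil, List.reverse_nil, wmap_nil]
    exact actsBy_one
  | a :: l => by
    rw [List.map_cons, List.reverse_cons, Bruhat.wmap_append, wpair_cons, Prod.fst_mul]
    exact ActsBy.mul ((C.rep a a.2).comp (toUnit X)) (actsBy_wpair X l)

theorem wpair_mem_of_word_eq_one (l : List ↥b.support) (hl : word D.P (l.map Subtype.val) = 1) :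
    C.wpair (𝟙_ (Over S)) l ∈ (C.tor (𝟙_ (Over S))).range := by
  let U := 𝟙_ (Over S)
  let K := (C.tor U).range
  have hsq : ∀ a : ↥b.support, C.gen U a * C.gen U a ∈ K := fun a => by
    have h2 : word D.P [(a : D.idx), (a : D.idx)] = 1 := LinearEquiv.ext fun m => by
      rw [word_cons, word_cons, word_nil, _root_.mul_one, ← pow_two, D.P.reflection_sq]
    have hA : ActsBy (AddMonoidHom.id D.M) (C.gen U a * C.gen U a).1 := by
      rw [show (C.gen U a * C.gen U a).1 = (C.wpair U [a, a]).1 by simp [NData.wpair]]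
      have := actsBy_wpair C U [a, a]
      rw [List.map_cons, List.map_cons, List.map_nil] at this
      have e : wmap D [(a : D.idx), (a : D.idx)].reverse = AddMonoidHom.id D.M := by
        refine AddMonoidHom.ext fun m => ?_
        change word D.P [(a : D.idx), (a : D.idx)] m = m
        rw [h2]; rfl
      rwa [e] at this
    obtain ⟨t, ht⟩ := exists_torus_of_commute_torus (D := D) fun Y f s => by
      have := hA Y f s
      rw [act_id, mul_inv_eq_iff_eq_mul] at this
      exact this.symm
    refine ⟨t, Prod.ext ht ?_⟩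
    have ho : orderOf (D.P.reflection (a : D.idx) * D.P.reflection (a : D.idx)) = 1 := by
      rw [orderOf_eq_one_iff]
      rw [← pow_two, D.P.reflection_sq]
    have := C.rel a a.2 a a.2 t
    rw [ho, pow_one, pow_one] at this
    simp only [NData.gen, Prod.fst_mul, Prod.snd_mul, U, toUnit_unique (toUnit (𝟙_ (Over S))) (𝟙 _),
      Category.id_comp] at ht ⊢
    exact this ht
  let Nz := Subgroup.normalizer (K : Set ((U ⟶ G) × (U ⟶ H)))
  have hgen : ∀ a : ↥b.support, C.gen U a ∈ Nz := fun a => by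
    rw [Subgroup.mem_normalizer_iff]
    intro k
    constructor
    · rintro ⟨t, rfl⟩
      exact ⟨_, by rw [conj_gen, mul_inv_cancel_right]⟩
    · rintro ⟨t, ht⟩
      obtain ⟨s, hs⟩ := hsq a
      refine ⟨s⁻¹ * act D (wmap D [(a : D.idx)]) t * s, ?_⟩
      have h1 : C.tor U (act D (wmap D [(a : D.idx)]) t) = C.gen U a * C.tor U t * (C.gen U a)⁻¹ :=
        eq_mul_inv_of_mul_eq (conj_gen C U a t).symm
      rw [map_mul, map_mul, map_inv, h1, hs, ht]
      group
  let f : ↥b.support → Nz ⧸ (K.subgroupOf Nz) := fun a => QuotientGroup.mk' _ ⟨C.gen U a, hgen a⟩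
  haveI : D.P.IsReduced := R2.reduced_of_base b
  have hD : Deletion (simp' D.P (b.support : Set D.idx)) := deletion (Groth.Agent.H84.BaseBridge.isSimpleSys b)
  have hf : ∀ a c : ↥b.support, (f a * f c) ^
      orderOf (simp' D.P (b.support : Set D.idx) a * simp' D.P (b.support : Set D.idx) c) = 1 := by
    intro a c
    rw [order_eq]
    set n := orderOf (D.P.reflection (a : D.idx) * D.P.reflection (c : D.idx)) with hn
    rw [← map_mul, ← map_pow]
    refine (QuotientGroup.eq_one_iff _).2 (Subgroup.mem_subgroupOf.2 ?_)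
    rw [Subgroup.coe_pow, Subgroup.coe_mul]
    have hA : ActsBy (AddMonoidHom.id D.M) ((C.gen U a * C.gen U c) ^ n).1 := by
      rw [← val_flatten_replicate]
      have := actsBy_wpair C U (List.replicate n [a, c]).flatten
      have e : wmap D ((List.replicate n [a, c]).flatten.map Subtype.val).reverse = AddMonoidHom.id D.M := by
        refine AddMonoidHom.ext fun m => ?_
        change word D.P _ m = m
        rw [word_reverse, show word D.P ((List.replicate n [a, c]).flatten.map Subtype.val) =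
          val (fun x : ↥b.support => D.P.reflection (x : D.idx)) (List.replicate n [a, c]).flatten by
            simp [word, val, List.map_map, Function.comp_def], val_flatten_replicate, hn, pow_orderOf_eq_one, inv_one]
        rfl
      rwa [e] at this
    obtain ⟨t, ht⟩ := exists_torus_of_commute_torus (D := D) fun Y g s => by
      have := hA Y g s
      rw [act_id, mul_inv_eq_iff_eq_mul] at this
      exact this.symm
    refine ⟨t, Prod.ext ht ?_⟩
    simp only [NData.gen, NData.tor, Prod.pow_fst, Prod.pow_snd, Prod.fst_mul, Prod.snd_mul, U,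
      toUnit_unique (toUnit (𝟙_ (Over S))) (𝟙 _), Category.id_comp] at ht ⊢
    exact C.rel a a.2 c c.2 t ht
  have key := lift_eq_one hD (fun a => Groth.Agent.Lib.RootDatum.Basic.reflection_mul_self D.P (a : D.idx))
    (simp'_injective (Groth.Agent.H84.BaseBridge.isSimpleSys b)) hf l
    (by rw [val_eq]; exact (wordProd_eq_one_iff _).2 hl)
  have hval : ∀ l : List ↥b.support, ∃ hm : C.wpair U l ∈ Nz, QuotientGroup.mk' (K.subgroupOf Nz) ⟨_, hm⟩ = val f l := by
    intro l
    induction l with
    | nil => exact ⟨one_mem _, map_one _⟩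
    | cons a l ih =>
      obtain ⟨hm, he⟩ := ih
      refine ⟨mul_mem (hgen a) hm, ?_⟩
      rw [val_cons, ← he, show f a = QuotientGroup.mk' _ ⟨C.gen U a, hgen a⟩ from rfl, ← map_mul]
      rfl
  obtain ⟨hm, he⟩ := hval l
  rw [key] at he
  exact Subgroup.mem_subgroupOf.1 ((QuotientGroup.eq_one_iff _).1 he)

theorem wpair_mem (X : Over S) (l : List ↥b.support) (hl : word D.P (l.map Subtype.val) = 1) :
    C.wpair X l ∈ (C.tor X).range := by
  obtain ⟨t, ht⟩ := wpair_mem_of_word_eq_one C l hl
  exact ⟨toUnit X ≫ t, by rw [← resPair_tor, ht, resPair_wpair]⟩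

/-- The pairs generated by the torus and the simple roots. -/
noncomputable def NData.R (X : Over S) : Subgroup ((X ⟶ G) × (X ⟶ H)) :=
  Subgroup.closure (Set.range (C.tor X) ∪ Set.range (C.gen X))

theorem gen_mem (X : Over S) (a : ↥b.support) : C.gen X a ∈ C.R X := Subgroup.subset_closure (Or.inr ⟨a, rfl⟩)

theorem tor_mem (X : Over S) (t : X ⟶ D.T) : C.tor X t ∈ C.R X := Subgroup.subset_closure (Or.inl ⟨t, rfl⟩)

theorem wpair_mem_R (X : Over S) : ∀ l : List ↥b.support, C.wpair X l ∈ C.R X
  | [] => one_mem _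
  | a :: l => by
    rw [NData.wpair, val_cons]
    exact mul_mem (gen_mem C X a) (wpair_mem_R X l)

theorem exists_form (X : Over S) {p : (X ⟶ G) × (X ⟶ H)} (hp : p ∈ C.R X) :
    ∃ (l : List ↥b.support) (t : X ⟶ D.T), p = C.tor X t * C.wpair X l := by
  refine Subgroup.closure_induction (p := fun p _ => ∃ (l : List ↥b.support) (t : X ⟶ D.T),
    p = C.tor X t * C.wpair X l) ?_ ⟨[], 1, by simp [NData.wpair]⟩ ?_ ?_ hp
  · rintro _ (⟨t, rfl⟩ | ⟨a, rfl⟩)
    · exact ⟨[], t, by simp [NData.wpair]⟩
    · exact ⟨[a], 1, by simp [NData.wpair]⟩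
  · rintro _ _ _ _ ⟨l, t, rfl⟩ ⟨l', t', rfl⟩
    obtain ⟨t₁, h₁⟩ := conj_wpair C X l t'
    refine ⟨l ++ l', t * t₁, ?_⟩
    rw [map_mul, wpair_append, ← _root_.mul_assoc, _root_.mul_assoc (C.tor X t), h₁]
    simp only [_root_.mul_assoc]
  · rintro _ _ ⟨l, t, rfl⟩
    obtain ⟨t₁, h₁⟩ := wpair_mem C X (l.reverse ++ l) (by
      rw [List.map_append, List.map_reverse, word_append, word_reverse, inv_mul_cancel])
    rw [wpair_append] at h₁
    obtain ⟨t₂, h₂⟩ := conj_wpair C X l.reverse t⁻¹
    refine ⟨l.reverse, t₁⁻¹ * t₂, ?_⟩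
    rw [map_mul, map_inv, h₁, _root_.mul_assoc, ← h₂, map_inv]
    group

theorem eq_one_of_fst {X : Over S} {p : (X ⟶ G) × (X ⟶ H)} (hp : p ∈ C.R X) (h1 : p.1 = 1) : p.2 = 1 := by
  refine Over.OverMorphism.ext (Scheme.Cover.hom_ext X.left.affineCover _ _ fun j => ?_)
  let Y : Over S := Over.mk (X.left.affineCover.f j ≫ X.hom)
  let x : Y ⟶ X := Over.homMk (X.left.affineCover.f j) rfl
  refine congrArg (fun z => z.left) (show x ≫ p.2 = x ≫ 1 from ?_)
  have hp' : resPair (G := G) (H := H) x p ∈ C.R Y := by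
    have hle : C.R X ≤ (C.R Y).comap (resPair (G := G) (H := H) x) := by
      refine (Subgroup.closure_le _).2 ?_
      rintro _ (⟨t, rfl⟩ | ⟨a, rfl⟩)
      · rw [SetLike.mem_coe, Subgroup.mem_comap]
        rw [resPair_tor]; exact tor_mem C _ _
      · rw [SetLike.mem_coe, Subgroup.mem_comap]
        rw [resPair_gen]; exact gen_mem C _ _
    exact hle hp
  haveI : IsAffine Y.left := inferInstanceAs (IsAffine (X.left.affineCover.X j))
  have h1' : (resPair (G := G) (H := H) x p).1 = 1 := by simp [resPair, h1]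
  rw [MonObj.comp_one]
  change (resPair (G := G) (H := H) x p).2 = 1
  generalize resPair (G := G) (H := H) x p = q at hp' h1'
  rcases subsingleton_or_nontrivial Γ(Y.left, ⊤) with hΓ | hΓ
  · haveI : IsEmpty Y.left := by
      haveI : IsEmpty (Spec Γ(Y.left, ⊤)) := inferInstanceAs (IsEmpty (PrimeSpectrum Γ(Y.left, ⊤)))
      exact Y.left.isoSpec.hom.homeomorph.isEmpty
    exact Over.OverMorphism.ext ((isInitialOfIsEmpty (X := Y.left)).hom_ext _ _)
  · obtain ⟨l, t, rfl⟩ := exists_form C Y hp'
    have hw : word D.P (l.map Subtype.val) = 1 := by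
      have hA : ActsBy (AddMonoidHom.id D.M) (C.wpair Y l).1 := by
        have : (C.wpair Y l).1 = t⁻¹ ≫ D.i := by
          haveI := D.maximalTorus.1
          rw [Prod.fst_mul] at h1'
          rw [GrpObj.inv_comp]
          exact eq_inv_of_mul_eq_one_right h1'
        rw [this]
        exact actsBy_torus _
      have := actsBy_unique (actsBy_wpair C Y l) hA
      refine inv_injective ?_
      rw [← word_reverse, inv_one]
      exact LinearEquiv.ext fun m => DFunLike.congr_fun this m
    obtain ⟨t', ht'⟩ := wpair_mem C Y l hw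
    rw [← ht', ← map_mul] at h1' ⊢
    haveI := D.maximalTorus.1
    haveI := D.maximalTorus.2.1
    have : t * t' = 1 := by
      refine (cancel_mono D.i).1 ?_
      rw [MonObj.one_comp]
      exact h1'
    rw [this, map_one]
    rfl

theorem snd_eq_of_fst_eq {X : Over S} {p q : (X ⟶ G) × (X ⟶ H)} (hp : p ∈ C.R X) (hq : q ∈ C.R X)
    (h : p.1 = q.1) : p.2 = q.2 :=
  mul_inv_eq_one.1 (eq_one_of_fst C (mul_mem hp (inv_mem hq)) (by simp [h]))

end Groth.Agent.H82.Coxeter
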