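import Groth.Agent.H82.Coxeter.Normalizer

/-!
# Construction of the homomorphism on the normalizer
-/

set_option autoImplicit false
set_option linter.style.haveILetI false
set_option linter.unusedSectionVars false
universe u

open CategoryTheory MonoidalCategory CartesianMonoidalCategory MonObj GrpObj AlgebraicGeometry Opposite
open Groth.Agent.Lib.RedPts Groth.Agent.H82.BigCell Groth.Agent.H82.Contract Groth.Agent.H82.Weyl

namespace Groth.Agent.H82.Coxeter

variable {S : Scheme.{u}} {G H : Over S} [GrpObj G] [GrpObj H] {D : Red.SplitRed G} [D.P.IsCrystallographic]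
  {b : D.P.Base} (C : NData b H)

theorem res_mem {X X' : Over S} (x : X' ⟶ X) {p : (X ⟶ G) × (X ⟶ H)} (hp : p ∈ C.R X) :
    resPair x p ∈ C.R X' := by
  have hle : C.R X ≤ (C.R X').comap (resPair (G := G) (H := H) x) := by
    refine (Subgroup.closure_le _).2 ?_
    rintro _ (⟨t, rfl⟩ | ⟨a, rfl⟩)
    · rw [SetLike.mem_coe, Subgroup.mem_comap, resPair_tor]; exact tor_mem C _ _
    · rw [SetLike.mem_coe, Subgroup.mem_comap, resPair_gen]; exact gen_mem C _ _
  exact hle hp

/-- Reflections act by the coroot formula. -/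
theorem act_refl (a : D.idx) {X : Over S} (t : X ⟶ D.T) :
    act D (wmap D [a]) t = t * (t ≫ chr D (D.P.root a) ≫ cochar D (D.P.coroot a).toAddMonoidHom)⁻¹ := by
  rw [eq_mul_inv_iff_mul_eq]
  haveI : IsMonHom (show D.T ⟶ Red.DS S D.M from D.split.hom.hom.hom) := D.split.hom.hom.isMonHom_hom
  refine ext_dsFn fun m => ?_
  rw [show ∀ p q : X ⟶ D.T, (p * q) ≫ D.split.hom.hom.hom = (p ≫ D.split.hom.hom.hom) * (q ≫ D.split.hom.hom.hom)
    from fun p q => MonObj.mul_comp p q (show D.T ⟶ Red.DS S D.M from D.split.hom.hom.hom), Gm.dsFn_mul,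
    dsFn_act, ← Category.assoc t (chr D _), dsFn_cochar, chr, ← Category.assoc t, Red.chi, Gm.dsFn_DSmap,
    ← Gm.dsFn_add]
  refine congrArg _ ?_
  simp [wmap, word, D.P.reflection_apply, RootPairing.coroot', D.pairing_eq, zmultiplesHom_apply]

variable {N : Over S} [GrpObj N] {j : N ⟶ G}

theorem exists_gen_point (hN : Red.IsNormalizerOf D.i j) {a : D.idx} {w : 𝟙_ (Over S) ⟶ G}
    (hw : ActsBy (wmap D [a]) w) : ∃ n : 𝟙_ (Over S) ⟶ N, n ≫ j = w := by
  refine (hN.2.2 _ w).2 fun X x t => ⟨⟨_, hw X x t⟩, ⟨act D (wmap D [a]) t, ?_⟩⟩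
  have h2 : ActsBy (wmap D [a]) w⁻¹ := hw.inv (by
    have := wmap_reverse_comp (D := D) [a]
    rwa [List.reverse_singleton] at this)
  have := h2 X x t
  rw [GrpObj.comp_inv, _root_.inv_inv] at this
  exact this

include C in
theorem exists_local (hN : Red.IsNormalizerOf D.i j) (p : N.left) :
    ∃ (U : N.left.Opens) (F : openObj N U ⟶ H), p ∈ U ∧ (openHom N U ≫ j, F) ∈ C.R (openObj N U) := by
  have hn : Normal D j := by
    have := normal_of_isNormalizerOf hN (𝟙 N)
    rwa [Category.id_comp] at this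
  obtain ⟨L, U, hp, hL⟩ := exists_nhd hn p
  obtain ⟨l, hl⟩ := exists_simple_word b L
  have h1 := actsBy_wpair C (openObj N U) l.reverse
  rw [List.map_reverse, List.reverse_reverse, hl] at h1
  have h2 := (h1.inv (ψ := wmap D L.reverse) (by
    simpa using wmap_reverse_comp (D := D) L.reverse)).mul hL
  rw [wmap_reverse_comp] at h2
  obtain ⟨t, ht⟩ := exists_torus_of_commute_torus (D := D) fun Y f s => by
    have := h2 Y f s
    rw [act_id, mul_inv_eq_iff_eq_mul] at this
    exact this.symm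
  refine ⟨U, (C.wpair (openObj N U) l.reverse * C.tor (openObj N U) t).2, hp, ?_⟩
  have he : (C.wpair (openObj N U) l.reverse * C.tor (openObj N U) t).1 = openHom N U ≫ j := by
    rw [Prod.fst_mul]
    change _ * (t ≫ D.i) = _
    rw [ht, mul_inv_cancel_left]
  rw [← he]
  exact mul_mem (wpair_mem_R C _ _) (tor_mem C _ _)

/-- The pair of a point of the normalizer under a homomorphism. -/
noncomputable def pairHom (fN : N ⟶ H) [IsMonHom fN] [IsMonHom j] (X : Over S) :
    (X ⟶ N) →* (X ⟶ G) × (X ⟶ H) :=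
  MonoidHom.mk' (fun n => (n ≫ j, n ≫ fN)) fun x y => Prod.ext (MonObj.mul_comp x y j) (MonObj.mul_comp x y fN)

variable (tN : D.T ⟶ N)

include C in
theorem existsUnique_hom (hN : Red.IsNormalizerOf D.i j) (htN : tN ≫ j = D.i) :
    ∃! fN : N ⟶ H, IsMonHom fN ∧ tN ≫ fN = C.fT ∧
      ∀ a ∈ b.support, ∀ n : 𝟙_ (Over S) ⟶ N, n ≫ j = C.w a → n ≫ fN = C.h a := by
  haveI := hN.1
  haveI := hN.2.1
  choose U F hU hF using exists_local C hN
  let cv := N.left.openCoverOfIsOpenCover U (TopologicalSpace.IsOpenCover.mk (eq_top_iff.2 fun w _ =>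
    TopologicalSpace.Opens.mem_iSup.2 ⟨w, hU w⟩))
  let g := Scheme.Cover.glueMorphisms cv (fun p => (F p).left) fun p q => by
    let W : Over S := Over.mk (Limits.pullback.fst (U p).ι (U q).ι ≫ (U p).ι ≫ N.hom)
    let x : W ⟶ openObj N (U p) := Over.homMk (Limits.pullback.fst (U p).ι (U q).ι) rfl
    let y : W ⟶ openObj N (U q) := Over.homMk (Limits.pullback.snd (U p).ι (U q).ι) (by
      simp [W, Limits.pullback.condition_assoc])
    have hxy : x ≫ openHom N (U p) = y ≫ openHom N (U q) :=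
      Over.OverMorphism.ext (by simp [x, y, Limits.pullback.condition])
    exact congrArg (fun z => z.left) (snd_eq_of_fst_eq C (res_mem C x (hF p)) (res_mem C y (hF q))
      (show x ≫ openHom N (U p) ≫ j = y ≫ openHom N (U q) ≫ j by rw [reassoc_of% hxy]))
  have hg : ∀ p, (U p).ι ≫ g = (F p).left := fun p => Scheme.Cover.ι_glueMorphisms cv _ _ p
  let fN : N ⟶ H := Over.homMk g (Scheme.Cover.hom_ext cv _ _ fun p => by
    show (U p).ι ≫ g ≫ H.hom = (U p).ι ≫ N.hom
    rw [reassoc_of% (hg p), Over.w]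
    rfl)
  have hfN : ∀ p, openHom N (U p) ≫ fN = F p := fun p => Over.OverMorphism.ext (hg p)
  have hloc : ∀ (X : Over S) (n : X ⟶ N) (x : X.left), ∃ V : X.left.Opens, x ∈ V ∧
      ∀ (Y : Over S) (r : Y ⟶ X), Set.range r.left ⊆ V → (r ≫ n ≫ j, r ≫ n ≫ fN) ∈ C.R Y := by
    intro X n x
    refine ⟨n.left ⁻¹ᵁ U (n.left x), hU _, fun Y r hr => ?_⟩
    haveI : IsOpenImmersion (openHom N (U (n.left x))).left := inferInstanceAs (IsOpenImmersion (U (n.left x)).ι)
    obtain ⟨z, hz⟩ := Contract.exists_factor (openHom N (U (n.left x))) (r ≫ n) (by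
      rintro _ ⟨y, rfl⟩
      change _ ∈ Set.range (U (n.left x)).ι
      rw [Scheme.Opens.range_ι]
      exact hr ⟨y, rfl⟩)
    have e : (r ≫ n ≫ j, r ≫ n ≫ fN) = resPair z (openHom N (U (n.left x)) ≫ j, F (n.left x)) := by
      rw [← hfN, ← Category.assoc r n, ← Category.assoc r n, ← hz]
      simp [resPair]
    rw [e]
    exact res_mem C z (hF _)
  have key : ∀ (X : Over S) (n : X ⟶ N) (h : X ⟶ H), (n ≫ j, h) ∈ C.R X → n ≫ fN = h := by
    intro X n h hmem
    choose V hV hVR using hloc X n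
    refine Over.OverMorphism.ext (Scheme.Cover.hom_ext (X.left.openCoverOfIsOpenCover V
      (TopologicalSpace.IsOpenCover.mk (eq_top_iff.2 fun w _ =>
        TopologicalSpace.Opens.mem_iSup.2 ⟨w, hV w⟩))) _ _ fun x => ?_)
    have h1 := hVR x _ (openHom X (V x)) (by
      change Set.range (V x).ι ⊆ _
      rw [Scheme.Opens.range_ι])
    exact congrArg (fun z => z.left) (snd_eq_of_fst_eq C h1 (res_mem C (openHom X (V x)) hmem) rfl)
  haveI : IsMonHom fN := Groth.Agent.H87.HomDS.isMonHom_of_points fN fun X m n => by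
    choose V₁ h₁ h₁' using hloc X m
    choose V₂ h₂ h₂' using hloc X n
    choose V₃ h₃ h₃' using hloc X (m * n)
    refine Over.OverMorphism.ext (Scheme.Cover.hom_ext (X.left.openCoverOfIsOpenCover
      (fun x => V₁ x ⊓ V₂ x ⊓ V₃ x) (TopologicalSpace.IsOpenCover.mk (eq_top_iff.2 fun w _ =>
        TopologicalSpace.Opens.mem_iSup.2 ⟨w, ⟨⟨h₁ w, h₂ w⟩, h₃ w⟩⟩))) _ _ fun x => ?_)
    let r := openHom X (V₁ x ⊓ V₂ x ⊓ V₃ x)
    have hr : ∀ y, r.left y ∈ (V₁ x ⊓ V₂ x ⊓ V₃ x : X.left.Opens) := fun y => y.2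
    have e1 := h₁' x _ r (by rintro _ ⟨y, rfl⟩; exact (hr y).1.1)
    have e2 := h₂' x _ r (by rintro _ ⟨y, rfl⟩; exact (hr y).1.2)
    have e3 := h₃' x _ r (by rintro _ ⟨y, rfl⟩; exact (hr y).2)
    have := snd_eq_of_fst_eq C e3 (mul_mem e1 e2) (by simp [MonObj.mul_comp, MonObj.comp_mul])
    refine congrArg (fun z => z.left) (show r ≫ (m * n) ≫ fN = r ≫ ((m ≫ fN) * (n ≫ fN)) from ?_)
    rw [MonObj.comp_mul]
    exact this
  refine ⟨fN, ⟨inferInstance, key D.T tN C.fT ?_, fun a ha n hn => key _ n _ ?_⟩, ?_⟩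
  · rw [htN]
    have := tor_mem C D.T (𝟙 _)
    simpa [NData.tor] using this
  · rw [hn]
    have := gen_mem C (𝟙_ (Over S)) ⟨a, ha⟩
    simpa [NData.gen, toUnit_unique (toUnit (𝟙_ (Over S))) (𝟙 _)] using this
  · rintro fN' ⟨hm, hT, hw⟩
    refine Over.OverMorphism.ext (Scheme.Cover.hom_ext cv _ _ fun p => ?_)
    haveI := hm
    have hle : C.R (openObj N (U p)) ≤ (pairHom (j := j) fN' (openObj N (U p))).range := by
      refine (Subgroup.closure_le _).2 ?_
      rintro _ (⟨t, rfl⟩ | ⟨a, rfl⟩)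
      · exact ⟨t ≫ tN, by simp [pairHom, NData.tor, htN, hT]⟩
      · obtain ⟨n, hn⟩ := exists_gen_point hN (C.rep a a.2)
        exact ⟨toUnit _ ≫ n, by simp [pairHom, NData.gen, hn, hw a a.2 n hn]⟩
    obtain ⟨n, hn⟩ := hle (hF p)
    have h1 : n = openHom N (U p) := (cancel_mono j).1 (congrArg Prod.fst hn)
    have h2 : openHom N (U p) ≫ fN' = F p := h1 ▸ congrArg Prod.snd hn
    exact congrArg (fun z => z.left) (h2.trans (hfN p).symm)

end Groth.Agent.H82.Coxeter
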