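import Mathlib.GroupTheory.OrderOfElement
import Mathlib.Data.List.Rotate
import Mathlib.Tactic

/-!
# The deletion condition gives the Coxeter presentation
-/

set_option autoImplicit false

namespace Groth.Agent.H82.Coxeter

variable {B W Γ : Type*} [Group W] [Group Γ]

/-- The value of a word. -/
def val (s : B → W) (l : List B) : W := (l.map s).prod

@[simp] theorem val_nil (s : B → W) : val s [] = 1 := rfl

@[simp] theorem val_cons (s : B → W) (a : B) (l : List B) : val s (a :: l) = s a * val s l := by simp [val]

@[simp] theorem val_append (s : B → W) (l m : List B) : val s (l ++ m) = val s l * val s m := by simp [val]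

theorem val_reverse {s : B → W} (hs : ∀ a, s a * s a = 1) (l : List B) : val s l.reverse = (val s l)⁻¹ := by
  induction l with
  | nil => simp
  | cons a l ih =>
    have h : (s a)⁻¹ = s a := inv_eq_of_mul_eq_one_right (hs a)
    simp [ih, h]

theorem val_rot (s : B → W) (l m : List B) : val s (l ++ m) = 1 ↔ val s (m ++ l) = 1 := by
  simp only [val_append]
  exact mul_eq_one_comm

/-- The deletion condition. -/
def Deletion (s : B → W) : Prop :=
  ∀ l : List B, (∃ l' : List B, l'.length < l.length ∧ val s l' = val s l) →
    ∃ (x y z : List B) (a c : B), l = x ++ a :: y ++ c :: z ∧ val s (a :: y) = val s (y ++ [c])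

theorem alt_eq (L : List B) : ∀ (a b : B), L.length % 2 = 0 →
    (∀ i (h : i + 2 < L.length), L[i + 2] = L[i]) → L[0]? = some a → L[1]? = some b →
    L = (List.replicate (L.length / 2) [a, b]).flatten := by
  suffices H : ∀ (n : ℕ) (L : List B), L.length = n → ∀ (a b : B), n % 2 = 0 →
      (∀ i (h : i + 2 < L.length), L[i + 2] = L[i]) → L[0]? = some a → L[1]? = some b →
      L = (List.replicate (n / 2) [a, b]).flatten from H _ L rfl
  intro n
  induction' n using Nat.strong_induction_on with n ih
  intro L h a b he hp ha hb
  match L, h, ha, hb with
  | [x, y], h, ha, hb => simp at ha hb; subst ha hb h; simp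
  | x :: y :: z :: [], h, _, _ => simp at h; omega
  | x :: y :: z :: w :: m, h, ha, hb =>
    simp at ha hb; subst ha hb
    have h0 : z = x := hp 0 (by simp)
    have h1 : w = y := hp 1 (by simp)
    subst h0 h1
    have := ih (m.length + 2) (by simp at h; omega) (z :: w :: m) (by simp) z w
      (by simp at h; omega) (fun i hi => by
        have := hp (i + 2) (by simp at hi ⊢; omega)
        simpa using this) (by simp) (by simp)
    rw [show n / 2 = (m.length + 2) / 2 + 1 by simp at h; omega, List.replicate_succ, List.flatten_cons, ← this]
    simp

theorem val_flatten_replicate (s : B → W) (a b : B) (q : ℕ) :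
    val s (List.replicate q [a, b]).flatten = (s a * s b) ^ q := by
  induction q with
  | zero => simp
  | succ q ih => simp [List.replicate_succ, ih, pow_succ', _root_.mul_assoc]

theorem short_eq {g : B → W} (hg : ∀ a, g a * g a = 1) {u x y z : List B} {a c : B}
    (he : u = x ++ a :: y ++ c :: z) (h : val g (a :: y) = val g (y ++ [c])) :
    val g u = val g (x ++ y ++ z) := by
  subst he
  simp only [val_append, val_cons, val_nil, _root_.mul_one] at h ⊢
  rw [h]
  simp [_root_.mul_assoc, ← _root_.mul_assoc (g c), hg]

theorem rot_eq (g : B → W) (b c : B) (p : List B) (e : B) (r : List B) (a : B) :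
    val g ((b :: c :: p ++ [e]) ++ (r ++ [a])) = 1 ↔ val g (a :: b :: c :: (p ++ e :: r)) = 1 := by
  rw [show (b :: c :: p ++ [e]) ++ (r ++ [a]) = (b :: c :: (p ++ e :: r)) ++ [a] by simp, val_rot]
  simp

/-- The deletion condition gives the Coxeter presentation. -/
theorem lift_eq_one {s : B → W} (hD : Deletion s) (hs : ∀ a, s a * s a = 1) (hinj : Function.Injective s) {f : B → Γ}
    (hf : ∀ a b, (f a * f b) ^ orderOf (s a * s b) = 1) :
    ∀ l : List B, val s l = 1 → val f l = 1 := by
  have hfs : ∀ a, f a * f a = 1 := fun a => by
    have := hf a a
    rwa [hs, orderOf_one, pow_one] at this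
  have hev : ∀ l : List B, val s l = 1 → l.length % 2 = 0 := by
    intro l
    induction' h : l.length using Nat.strong_induction_on with n ih generalizing l
    intro hl
    match n with
    | 0 => rfl
    | n + 1 =>
      obtain ⟨x, y, z, a, c, he, hac⟩ := hD l ⟨[], by simp [h], by simp [hl]⟩
      have h1 : val s (x ++ y ++ z) = 1 := by
        rw [← hl, he]
        simp only [val_append, val_cons, val_nil, _root_.mul_one] at hac ⊢
        calc val s x * val s y * val s z = val s x * (val s y * s c) * (s c * val s z) := by
              rw [show val s y * s c = val s y * s c from rfl]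
              simp [_root_.mul_assoc, ← _root_.mul_assoc (s c), hs]
          _ = _ := by rw [← hac]
      have hlen := congrArg List.length he
      simp at hlen
      have := ih (x ++ y ++ z).length (by simp; omega) _ rfl h1
      simp at this
      omega
  intro l
  induction' hn : l.length using Nat.strong_induction_on with n ih generalizing l
  intro hl
  have he := hev l hl
  by_cases h2 : n < 4
  · match l, hn with
    | [], _ => simp
    | [x], _ => simp at he
    | [x, y], _ =>
      simp at hl ⊢
      have : x = y := hinj (by
        rw [eq_inv_of_mul_eq_one_left hl]; exact inv_eq_of_mul_eq_one_right (hs y))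
      rw [this, hfs]
    | [x, y, z], _ => simp at he
    | x :: y :: z :: w :: m, h => simp at h; omega
  obtain ⟨q, rfl⟩ : ∃ q, n = 2 * q + 4 := ⟨(n - 4) / 2, by omega⟩
  have IH : ∀ m : List B, m.length < 2 * q + 4 → val s m = 1 → val f m = 1 := fun m hm h =>
    ih m.length hm m rfl h
  have hss : ∀ x z, s x * (s x * z) = z := fun x z => by rw [← _root_.mul_assoc, hs, _root_.one_mul]
  have star : ∀ m : List B, m.length = 2 * q + 4 → val s m = 1 →
      val f m = 1 ∨ val s (m.take (q + 2)) = val s ((m.drop 1).take (q + 2)) := by
    intro m hm hm1
    have hu : val s (m.drop (q + 3)).reverse = val s (m.take (q + 3)) := by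
      rw [val_reverse hs, inv_eq_iff_mul_eq_one, mul_eq_one_comm, ← val_append, List.take_append_drop, hm1]
    obtain ⟨x, y, z, a, c, he, hac⟩ := hD (m.take (q + 3)) ⟨_, by simp [hm]; omega, hu⟩
    have hlen := congrArg List.length he
    simp [hm] at hlen
    by_cases hy : y.length + 1 < q + 2
    · left
      have hsy : val s ((a :: y) ++ (y ++ [c]).reverse) = 1 := by
        rw [val_append, val_reverse hs, hac, mul_inv_cancel]
      have hfy := IH _ (by simp; omega) hsy
      rw [val_append, val_reverse hfs, mul_inv_eq_one] at hfy
      have e1 := short_eq hs he hac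
      have e2 := short_eq hfs he hfy
      have hs1 : val s (x ++ y ++ z ++ m.drop (q + 3)) = 1 := by
        rw [val_append, ← e1, ← val_append, List.take_append_drop, hm1]
      have hf1 := IH _ (by simp [hm]; omega) hs1
      rwa [val_append, ← e2, ← val_append, List.take_append_drop] at hf1
    · right
      have hx : x = [] := List.eq_nil_of_length_eq_zero (by omega)
      have hz : z = [] := List.eq_nil_of_length_eq_zero (by omega)
      subst hx hz
      have e1 : m.take (q + 2) = a :: y := by
        have := congrArg (List.take (q + 2)) he
        rw [List.take_take, min_eq_left (by omega)] at this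
        rw [this, show q + 2 = (a :: y).length by simp; omega]
        simp
      have e2 : (m.drop 1).take (q + 2) = y ++ [c] := by
        have := congrArg (List.drop 1) he
        rw [List.drop_take] at this
        simpa using this
      rw [e1, e2, hac]
  have rot : ∀ i, val s (l.rotate i) = 1 ∧ (val f (l.rotate i) = 1 → val f l = 1) := by
    intro i
    rw [List.rotate_eq_drop_append_take_mod]
    constructor
    · rw [val_rot, List.take_append_drop, hl]
    · rw [val_rot, List.take_append_drop]; exact id
  by_contra hne1
  have key : ∀ i, (l.rotate i)[2]? = (l.rotate i)[0]? := by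
    intro i
    have hlen : (l.rotate i).length = 2 * q + 4 := by simp [hn]
    have h1 := (rot i).1
    have hnf : val f (l.rotate i) ≠ 1 := fun h => hne1 ((rot i).2 h)
    generalize l.rotate i = m at hlen h1 hnf
    match m, hlen with
    | a :: b :: c :: t, hlen =>
      simp at hlen
      obtain ⟨p, e, r, ht, hp, hr⟩ : ∃ (p : List B) (e : B) (r : List B),
          t = p ++ e :: r ∧ p.length = q ∧ r.length = q := by
        refine ⟨t.take q, t[q]'(by omega), t.drop (q + 1), ?_, by simp; omega, by simp; omega⟩
        rw [← List.drop_eq_getElem_cons (by omega), List.take_append_drop]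
      subst ht
      have hst := (star _ (by simp; omega) h1).resolve_left hnf
      rw [show ((a :: b :: c :: (p ++ e :: r)).drop 1).take (q + 2) = b :: c :: p by
        simp [← hp]] at hst
      set m₂ := (b :: c :: p ++ [e]) ++ (r ++ [a]) with hm₂
      have hnf2 : val f m₂ ≠ 1 := fun h => hnf ((rot_eq f b c p e r a).1 h)
      have h12 : val s m₂ = 1 := (rot_eq s b c p e r a).2 h1
      have hst2 := (star m₂ (by simp [hm₂]; omega) h12).resolve_left hnf2
      rw [show m₂.take (q + 2) = b :: c :: p by simp [hm₂, ← hp],
        show (m₂.drop 1).take (q + 2) = c :: p ++ [e] by simp [hm₂, ← hp, List.take_append]] at hst2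
      set l' := c :: b :: c :: (p ++ e :: p.reverse) with hl'
      have hl1 : val s l' = 1 := by
        rw [show l' = [c] ++ (b :: c :: p) ++ (e :: p.reverse) by simp [hl'], val_append, val_append, hst2]
        simp [val_reverse hs, _root_.mul_assoc, hss]
      rcases star l' (by simp [hl']; omega) hl1 with h | h
      · exfalso
        have e1 : val f (b :: c :: p ++ [e]) = val f (c :: p) := by
          rw [show l' = [c] ++ (b :: c :: p ++ [e]) ++ p.reverse by simp [hl'], val_append, val_append,
            val_reverse hfs, mul_inv_eq_one] at h
          have := congrArg (f c * ·) h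
          simp only [val_cons, val_nil, val_append, _root_.mul_one, ← _root_.mul_assoc, hfs, _root_.one_mul] at this
          simpa [_root_.mul_assoc] using this
        have e1s : val s (b :: c :: p ++ [e]) = val s (c :: p) := by
          rw [val_append, hst2, val_append]
          simp [_root_.mul_assoc, hs]
        have hs3 : val s (c :: p ++ (r ++ [a])) = 1 := by
          rw [val_append, ← e1s, ← val_append, ← hm₂, h12]
        have := IH _ (by simp; omega) hs3
        rw [val_append, ← e1, ← val_append, ← hm₂] at this
        exact hnf2 this
      · rw [show (l'.drop 1).take (q + 2) = b :: c :: p by simp [hl', ← hp], ← hst] at h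
        simp [hl', ← hp] at h
        have hX : ∀ X : List B, List.take p.length (c :: (p ++ X)) = List.take p.length (c :: p) := fun X => by
          rw [← List.cons_append, List.take_append_of_le_length (by simp)]
        simp only [hX, mul_left_inj] at h
        simpa using hinj h
  have hl2 : 0 < l.length ∧ 1 < l.length := by omega
  have halt := alt_eq l l[0] l[1] he (fun i hi => by
    have := key i
    rw [List.getElem?_rotate (by omega), List.getElem?_rotate (by omega)] at this
    rw [Nat.mod_eq_of_lt (by omega), Nat.mod_eq_of_lt (by omega)] at this
    rw [List.getElem?_eq_getElem (by omega), List.getElem?_eq_getElem (by omega)] at this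
    simpa [Nat.add_comm] using this) (by simp [hl2.1]) (by simp [hl2.2])
  rw [halt, val_flatten_replicate] at hne1 hl
  obtain ⟨k, hk⟩ := orderOf_dvd_of_pow_eq_one hl
  exact hne1 (by rw [hk, pow_mul, hf, one_pow])

end Groth.Agent.H82.Coxeter
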