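import Groth.Agent.H82.Coxeter.Present
import Groth.Agent.Lib.RootDatum.Weyl

/-!
# The Weyl group satisfies the deletion condition
-/

set_option autoImplicit false
set_option linter.unusedSectionVars false

open Set Function
open Groth.Agent.Lib.RootDatum.Basic Groth.Agent.Lib.RootDatum.PosSys Groth.Agent.Lib.RootDatum.Weyl

namespace Groth.Agent.H82.Coxeter

variable {ι R M N : Type*} [CommRing R] [AddCommGroup M] [Module R M] [AddCommGroup N] [Module R N]
  {P : RootPairing ι R M N} [IsDomain R] [CharZero R] [P.IsCrystallographic] [Finite ι]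
  {Δ : Set ι} (hΔ : RootD.IsSimpleSys P Δ)

/-- The simple reflection. -/
abbrev simp' (P : RootPairing ι R M N) (Δ : Set ι) (a : Δ) : P.Aut := RootPairing.Equiv.reflection P (a : ι)

theorem val_eq (l : List Δ) : val (simp' P Δ) l = wordProd P (l.map Subtype.val) := by
  simp [val, wordProd, List.map_map, Function.comp_def, simp']

include hΔ

theorem exchange_pos : ∀ (t : List Δ) (a : Δ), val (simp' P Δ) t • (a : ι) ∉ RootD.posOf P Δ →
    ∃ (x y : List Δ) (c : Δ), t = x ++ c :: y ∧
      val (simp' P Δ) (c :: y) = val (simp' P Δ) (y ++ [a])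
  | [], a, h => absurd (by simpa using self_mem_posOf hΔ a.2) h
  | b :: t, a, h => by
    by_cases ht : val (simp' P Δ) t • (a : ι) ∈ RootD.posOf P Δ
    · have hnot : P.reflectionPerm (b : ι) (val (simp' P Δ) t • (a : ι)) ∉ RootD.posOf P Δ := by
        simpa [mul_smul] using! h
      have heq : val (simp' P Δ) t • (a : ι) = b := by
        refine (multiple_of_reflectionPerm_notMem hΔ b.2 ht hnot).resolve_right ?_
        exact (isIndiv_iff P _).mp (isIndiv_smul P _ (isIndiv_simple hΔ a.2)) b
      refine ⟨[], t, b, rfl, ?_⟩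
      have hcj := conj_reflection P (val (simp' P Δ) t) (a : ι)
      rw [heq] at hcj
      have hb' : simp' P Δ b = val (simp' P Δ) t * simp' P Δ a * (val (simp' P Δ) t)⁻¹ := hcj.symm
      rw [val_cons, hb', inv_mul_cancel_right, val_append, val_cons, val_nil, _root_.mul_one]
    · obtain ⟨x, y, c, he, hc⟩ := exchange_pos t a ht
      exact ⟨b :: x, y, c, by rw [he]; rfl, hc⟩

theorem deletion : Deletion (simp' P Δ) := by
  classical
  intro l
  induction l using List.reverseRecOn with
  | nil => rintro ⟨l', h, -⟩; simp at h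
  | append_singleton t a ih =>
    rintro ⟨l', hlen, hval⟩
    by_cases hmin : ∃ t' : List Δ, t'.length < t.length ∧ val (simp' P Δ) t' = val (simp' P Δ) t
    · obtain ⟨x, y, z, a', c, he, hc⟩ := ih hmin
      exact ⟨x, y, z ++ [a], a', c, by rw [he]; simp, hc⟩
    by_cases hpos : val (simp' P Δ) t • (a : ι) ∈ RootD.posOf P Δ
    · exfalso
      have hneg : val (simp' P Δ) l' • (a : ι) ∉ RootD.posOf P Δ := by
        rw [hval, val_append, val_cons, val_nil, _root_.mul_one, mul_smul]
        change val (simp' P Δ) t • negIdx P (a : ι) ∉ _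
        rw [smul_negIdx]
        exact (isPosSys_posOf hΔ).disjoint hpos
      obtain ⟨x, y, c, he, hc⟩ := exchange_pos hΔ l' a hneg
      refine hmin ⟨x ++ y, ?_, ?_⟩
      · have := congrArg List.length he
        simp at this hlen ⊢
        omega
      · have h1 : val (simp' P Δ) l' = val (simp' P Δ) (x ++ y ++ [a]) := by
          rw [he, val_append, hc]; simp [_root_.mul_assoc]
        rw [hval, val_append, val_append _ (x ++ y)] at h1
        exact (mul_right_cancel h1).symm
    · obtain ⟨x, y, c, he, hc⟩ := exchange_pos hΔ t a hpos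
      exact ⟨x, y, [], c, a, by rw [he], hc⟩

theorem simp'_injective : Injective (simp' P Δ) := fun a b h => Subtype.ext <| by
  by_contra hne
  have h1 : P.reflectionPerm (a : ι) (a : ι) = P.reflectionPerm (b : ι) (a : ι) :=
    congrArg (fun g : P.Aut => g • (a : ι)) h
  have h2 := reflectionPerm_mem_posOf hΔ b.2 (self_mem_posOf hΔ a.2) hne ((isIndiv_iff P _).mp (isIndiv_simple hΔ a.2) b)
  rw [← h1] at h2
  exact (isPosSys_posOf hΔ).disjoint (self_mem_posOf hΔ a.2) h2

end Groth.Agent.H82.Coxeter
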